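import Groth.Agent.ResProp.EF.K981.SmallH

/-!
# Sub- and quotient objects of Hopf modules (for helper350, piece (b))
-/

set_option autoImplicit false

universe u

open TensorProduct

noncomputable section

namespace Groth.Agent.ResProp.EF.K981.HopfSub

open Groth.Agent.ResProp.EF.K83

variable {R : Type u} [CommRing R] {B : Type u} [CommRing B] [HopfAlgebra R B]
  {D : Type u} [CommRing D] [Algebra R D]
  {X : Type u} [AddCommGroup X] [Module R X] [Module D X] [IsScalarTower R D X]
  {Y : Type u} [AddCommGroup Y] [Module R Y] [Module D Y] [IsScalarTower R D Y]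

/-- stability of a `D`-submodule under the coaction -/
def St (co : HopfRep.Comod R B X) (W : Submodule D X) : Prop :=
  ∀ w ∈ W, co.coact w ∈ LinearMap.range ((W.subtype.restrictScalars R).rTensor B)

theorem st_iff (co : HopfRep.Comod R B X) (W : Submodule D X) :
    St co W ↔ @HopfRep.IsSubcomod R B _ _ _ _ X _ _ co (W.restrictScalars R) := Iff.rfl

theorem st_iff_stable (co : HopfRep.Comod R B X) (W : Submodule D X) : St co W ↔ Stable co W :=
  (stable_iff co W).symm

/-- the comodule structure on a stable submodule -/
@[reducible] def sub [Module.Flat R B] (co : HopfRep.Comod R B X) (W : Submodule D X) (hW : St co W) :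
    HopfRep.Comod R B W :=
  ComodSub.Comod.restr co (W.restrictScalars R) hW

/-- the comodule structure on the quotient -/
@[reducible] def quo (co : HopfRep.Comod R B X) (W : Submodule D X) (hW : St co W) :
    HopfRep.Comod R B (X ⧸ W) :=
  ComodSub.Comod.quot co (W.restrictScalars R) hW

theorem sub_coact [Module.Flat R B] (co : HopfRep.Comod R B X) (W : Submodule D X) (hW : St co W) (w : W) :
    (W.subtype.restrictScalars R).rTensor B ((sub co W hW).coact w) = co.coact (w : X) :=
  ComodSub.restr_coact_coe co (W.restrictScalars R) hW w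

theorem quo_coact (co : HopfRep.Comod R B X) (W : Submodule D X) (hW : St co W) (x : X) :
    (quo co W hW).coact (W.mkQ x) = (W.mkQ.restrictScalars R).rTensor B (co.coact x) := rfl

/-- the inclusion is a morphism of comodules -/
theorem subtype_hom [Module.Flat R B] (co : HopfRep.Comod R B X) (W : Submodule D X) (hW : St co W) :
    @Hoch.IsComodHom R _ B _ _ _ W _ _ (sub co W hW) X _ _ co (W.subtype.restrictScalars R) :=
  ComodSub.isComodHom_subtype co (W.restrictScalars R) hW

/-- the projection is a morphism of comodules -/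
theorem mkQ_hom (co : HopfRep.Comod R B X) (W : Submodule D X) (hW : St co W) :
    @Hoch.IsComodHom R _ B _ _ _ X _ _ co (X ⧸ W) _ _ (quo co W hW) (W.mkQ.restrictScalars R) :=
  ComodSub.isComodHom_mkQ co (W.restrictScalars R) hW

/-- the inclusion is injective after tensoring -/
theorem rTensor_subtype_inj [Module.Flat R B] (W : Submodule D X) :
    Function.Injective ((W.subtype.restrictScalars R).rTensor B) :=
  Module.Flat.rTensor_preserves_injective_linearMap _ W.injective_subtype

theorem act_map₂ (f : X →ₗ[D] Y) (t : D ⊗[R] B) (x : X ⊗[R] B) :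
    (f.restrictScalars R).rTensor B
        (TensorProduct.map₂ (Algebra.lsmul R R X).toLinearMap (LinearMap.mul R B) t x) =
      TensorProduct.map₂ (Algebra.lsmul R R Y).toLinearMap (LinearMap.mul R B) t
        ((f.restrictScalars R).rTensor B x) :=
  act_rTensor (k := R) (O := B) (P := D) f t x

/-- a stable submodule of a Hopf module is a Hopf module -/
theorem isHopfMod_sub [Module.Flat R B] {c : CoAlg R B D} {co : HopfRep.Comod R B X}
    (hX : IsHopfMod c X co) (W : Submodule D X) (hW : St co W) : IsHopfMod c W (sub co W hW) := by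
  refine ⟨fun d w => rTensor_subtype_inj W ?_⟩
  rw [sub_coact, act_map₂, sub_coact]
  exact hX.smul d w

/-- the quotient of a Hopf module by a stable submodule is a Hopf module -/
theorem isHopfMod_quo {c : CoAlg R B D} {co : HopfRep.Comod R B X}
    (hX : IsHopfMod c X co) (W : Submodule D X) (hW : St co W) : IsHopfMod c (X ⧸ W) (quo co W hW) := by
  refine ⟨fun d x => ?_⟩
  obtain ⟨x, rfl⟩ := W.mkQ_surjective x
  rw [← map_smul, quo_coact, quo_coact, hX.smul, act_map₂]

/-- a Hopf submodule: `f` injective, `D`-linear, colinear, into a Hopf module -/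
theorem isHopfMod_of_injective [Module.Flat R B] {c : CoAlg R B D} {co : HopfRep.Comod R B X}
    {co' : HopfRep.Comod R B Y} (hY : IsHopfMod c Y co') (f : X →ₗ[D] Y)
    (hf : @Hoch.IsComodHom R _ B _ _ _ X _ _ co Y _ _ co' (f.restrictScalars R))
    (hi : Function.Injective f) : IsHopfMod c X co := by
  refine ⟨fun d x => ?_⟩
  have hinj : Function.Injective ((f.restrictScalars R).rTensor B) :=
    Module.Flat.rTensor_preserves_injective_linearMap _ hi
  have h : ∀ y, co'.coact (f y) = (f.restrictScalars R).rTensor B (co.coact y) := fun y => LinearMap.congr_fun hf y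
  apply hinj
  rw [act_map₂, ← h, ← h, map_smul, hY.smul]

/-- a Hopf quotient -/
theorem isHopfMod_of_surjective {c : CoAlg R B D} {co : HopfRep.Comod R B X}
    {co' : HopfRep.Comod R B Y} (hX : IsHopfMod c X co) (f : X →ₗ[D] Y)
    (hf : @Hoch.IsComodHom R _ B _ _ _ X _ _ co Y _ _ co' (f.restrictScalars R))
    (hs : Function.Surjective f) : IsHopfMod c Y co' := by
  refine ⟨fun d y => ?_⟩
  obtain ⟨x, rfl⟩ := hs y
  have h : ∀ y, co'.coact (f y) = (f.restrictScalars R).rTensor B (co.coact y) := fun y => LinearMap.congr_fun hf y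
  rw [← map_smul, h, h, hX.smul, act_map₂]

theorem St.comap [Module.Flat R B] {co : HopfRep.Comod R B X} {co' : HopfRep.Comod R B Y} (f : X →ₗ[D] Y)
    (hf : @Hoch.IsComodHom R _ B _ _ _ X _ _ co Y _ _ co' (f.restrictScalars R))
    {W : Submodule D Y} (h : St co' W) : St co (W.comap f) := by
  rw [st_iff_stable] at h ⊢
  exact Stable.comap (f := f) (fun x => LinearMap.congr_fun hf x) h

theorem St.map {co : HopfRep.Comod R B X} {co' : HopfRep.Comod R B Y} (f : X →ₗ[D] Y)
    (hf : @Hoch.IsComodHom R _ B _ _ _ X _ _ co Y _ _ co' (f.restrictScalars R))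
    {W : Submodule D X} (h : St co W) : St co' (W.map f) := by
  rw [st_iff_stable] at h ⊢
  exact Stable.map (f := f) (fun x => LinearMap.congr_fun hf x) h

/-- the kernel is stable -/
theorem st_ker [Module.Flat R B] {co : HopfRep.Comod R B X} {co' : HopfRep.Comod R B Y} (f : X →ₗ[D] Y)
    (hf : @Hoch.IsComodHom R _ B _ _ _ X _ _ co Y _ _ co' (f.restrictScalars R)) :
    St co (LinearMap.ker f) := by
  have h : St (D := D) co' (⊥ : Submodule D Y) := by
    rw [st_iff_stable]; exact Stable.bot co'
  exact h.comap f hf

/-- the range is stable -/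
theorem st_range {co : HopfRep.Comod R B X} {co' : HopfRep.Comod R B Y} (f : X →ₗ[D] Y)
    (hf : @Hoch.IsComodHom R _ B _ _ _ X _ _ co Y _ _ co' (f.restrictScalars R)) :
    St co' (LinearMap.range f) := by
  have h : St (D := D) co (⊤ : Submodule D X) := by
    rw [st_iff_stable]; exact Stable.top co
  rw [LinearMap.range_eq_map]
  exact h.map f hf

/-- stability passes to the preimage in a stable submodule -/
theorem St.sub_comap [Module.Flat R B] {co : HopfRep.Comod R B X} {W W' : Submodule D X} (hW : St co W)
    (hW' : St co W') : St (sub co W hW) (W'.comap W.subtype) :=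
  hW'.comap W.subtype (subtype_hom co W hW)

/-- the corestriction of a colinear map to a stable submodule is colinear -/
theorem codRestrict_hom [Module.Flat R B] {co : HopfRep.Comod R B X} {co' : HopfRep.Comod R B Y} (f : X →ₗ[D] Y)
    (hf : @Hoch.IsComodHom R _ B _ _ _ X _ _ co Y _ _ co' (f.restrictScalars R))
    {W : Submodule D Y} (hW : St co' W) (h : ∀ x, f x ∈ W) :
    @Hoch.IsComodHom R _ B _ _ _ X _ _ co W _ _ (sub co' W hW) ((f.codRestrict W h).restrictScalars R) := by
  apply LinearMap.ext
  intro x
  apply rTensor_subtype_inj W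
  have h1 : co'.coact (f x) = (f.restrictScalars R).rTensor B (co.coact x) := LinearMap.congr_fun hf x
  have h2 : (W.subtype.restrictScalars R) ∘ₗ ((f.codRestrict W h).restrictScalars R) = f.restrictScalars R := rfl
  change (W.subtype.restrictScalars R).rTensor B ((sub co' W hW).coact (f.codRestrict W h x)) =
    (W.subtype.restrictScalars R).rTensor B (((f.codRestrict W h).restrictScalars R).rTensor B (co.coact x))
  rw [sub_coact, ← LinearMap.comp_apply, ← LinearMap.rTensor_comp, h2]
  exact h1

/-- the map induced on a quotient by a colinear map is colinear -/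
theorem liftQ_hom {co : HopfRep.Comod R B X} {co' : HopfRep.Comod R B Y} (f : X →ₗ[D] Y)
    (hf : @Hoch.IsComodHom R _ B _ _ _ X _ _ co Y _ _ co' (f.restrictScalars R))
    {W : Submodule D X} (hW : St co W) (h : W ≤ LinearMap.ker f) :
    @Hoch.IsComodHom R _ B _ _ _ (X ⧸ W) _ _ (quo co W hW) Y _ _ co' ((W.liftQ f h).restrictScalars R) := by
  apply LinearMap.ext
  intro x
  obtain ⟨x, rfl⟩ := W.mkQ_surjective x
  have h1 : co'.coact (f x) = (f.restrictScalars R).rTensor B (co.coact x) := LinearMap.congr_fun hf x
  have h2 : ((W.liftQ f h).restrictScalars R) ∘ₗ (W.mkQ.restrictScalars R) = f.restrictScalars R :=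
    LinearMap.ext fun y => rfl
  change co'.coact (f x) = ((W.liftQ f h).restrictScalars R).rTensor B ((quo co W hW).coact (W.mkQ x))
  rw [quo_coact, ← LinearMap.comp_apply (((W.liftQ f h).restrictScalars R).rTensor B), ← LinearMap.rTensor_comp, h2]
  exact h1

end Groth.Agent.ResProp.EF.K981.HopfSub
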