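import Groth.Agent.Hoch.K915.DSq
import Groth.Prelude.Def_ComodSub
import Mathlib.RingTheory.Flat.Basic
import Mathlib.LinearAlgebra.TensorProduct.RightExactness
import Mathlib.RingTheory.Noetherian.Basic

/-!
# Middle exactness of `Hoch.H` (S16912, block G6b, helper981)
-/

set_option autoImplicit false

universe u

open TensorProduct

noncomputable section

namespace Groth.Agent.ResProp.EF.K981

variable {k : Type u} [CommRing k] {A : Type u} [CommRing A] [Bialgebra k A]

section Map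

variable {V V' V'' : Type u} [AddCommGroup V] [Module k V] [AddCommGroup V'] [Module k V']
  [AddCommGroup V''] [Module k V'']

/-- the map on cochains induced by a linear map -/
def cm (f : V →ₗ[k] V') : (n : ℕ) → ((Hoch.cochain k A V n : Type u) →ₗ[k] (Hoch.cochain k A V' n : Type u))
  | 0 => f
  | n + 1 => (cm f n).rTensor A

/-- a morphism of comodules, explicit structures -/
def Hom (c : HopfRep.Comod k A V) (c' : HopfRep.Comod k A V') (f : V →ₗ[k] V') : Prop :=
  c'.coact ∘ₗ f = f.rTensor A ∘ₗ c.coact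

theorem cm_d {c : HopfRep.Comod k A V} {c' : HopfRep.Comod k A V'} {f : V →ₗ[k] V'} (h : Hom c c' f) (n : ℕ) :
    @Hoch.d k _ A _ _ V' _ _ c' n ∘ₗ cm f n = cm f (n + 1) ∘ₗ @Hoch.d k _ A _ _ V _ _ c n := by
  induction n with
  | zero =>
    apply LinearMap.ext
    intro v
    have h1 := LinearMap.congr_fun h v
    simp only [LinearMap.comp_apply] at h1
    change c'.coact (f v) - (f v) ⊗ₜ[k] (1 : A) = f.rTensor A (c.coact v - v ⊗ₜ[k] (1 : A))
    rw [h1, map_sub, LinearMap.rTensor_tmul]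
  | succ n ih => exact K915.HochBasic.map_step k A (cm f n) _ _ _ ih

theorem cm_d_apply {c : HopfRep.Comod k A V} {c' : HopfRep.Comod k A V'} {f : V →ₗ[k] V'} (h : Hom c c' f)
    (n : ℕ) (x : (Hoch.cochain k A V n : Type u)) :
    @Hoch.d k _ A _ _ V' _ _ c' n (cm f n x) = cm f (n + 1) (@Hoch.d k _ A _ _ V _ _ c n x) :=
  LinearMap.congr_fun (cm_d h n) x

theorem cm_surjective {f : V →ₗ[k] V'} (h : Function.Surjective f) (n : ℕ) :
    Function.Surjective (cm (A := A) f n) := by
  induction n with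
  | zero => exact h
  | succ n ih => exact LinearMap.rTensor_surjective A ih

theorem cm_injective [Module.Flat k A] {f : V →ₗ[k] V'} (h : Function.Injective f) (n : ℕ) :
    Function.Injective (cm (A := A) f n) := by
  induction n with
  | zero => exact h
  | succ n ih => exact Module.Flat.rTensor_preserves_injective_linearMap (M := A) _ ih

theorem cm_exact {f : V →ₗ[k] V'} {g : V' →ₗ[k] V''} (h : Function.Exact f g) (hg : Function.Surjective g)
    (n : ℕ) : Function.Exact (cm (A := A) f n) (cm (A := A) g n) := by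
  induction n with
  | zero => exact h
  | succ n ih => exact rTensor_exact A ih (cm_surjective hg n)

/-- the map on cohomology -/
def mapH {c : HopfRep.Comod k A V} {c' : HopfRep.Comod k A V'} (f : V →ₗ[k] V') (h : Hom c c' f) (n : ℕ) :
    @Hoch.H k _ A _ _ V _ _ c n →ₗ[k] @Hoch.H k _ A _ _ V' _ _ c' n :=
  Submodule.mapQ _ _ ((cm f n).restrict (p := @Hoch.cocycles k _ A _ _ V _ _ c n)
      (q := @Hoch.cocycles k _ A _ _ V' _ _ c' n) (fun x hx => by
    change @Hoch.d k _ A _ _ V' _ _ c' n (cm f n x) = 0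
    rw [cm_d_apply h]
    have : @Hoch.d k _ A _ _ V _ _ c n x = 0 := hx
    rw [this, map_zero])) (by
    rintro ⟨x, hx⟩ hx'
    simp only [Submodule.mem_comap, Submodule.coe_subtype] at hx' ⊢
    change cm f n x ∈ @Hoch.coboundaries k _ A _ _ V' _ _ c' n
    cases n with
    | zero =>
      have : x = 0 := hx'
      rw [this, map_zero]
      exact Submodule.zero_mem _
    | succ n =>
      obtain ⟨y, hy⟩ := hx'
      refine ⟨cm f n y, ?_⟩
      rw [cm_d_apply h, hy])

theorem mapH_mk {c : HopfRep.Comod k A V} {c' : HopfRep.Comod k A V'} (f : V →ₗ[k] V') (h : Hom c c' f) (n : ℕ)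
    (x : @Hoch.cocycles k _ A _ _ V _ _ c n) (x' : @Hoch.cocycles k _ A _ _ V' _ _ c' n)
    (e : (x' : (Hoch.cochain k A V' n : Type u)) = cm f n x) :
    mapH f h n (@Hoch.H.mk k _ A _ _ V _ _ c n x) = @Hoch.H.mk k _ A _ _ V' _ _ c' n x' := by
  have : x' = (cm f n).restrict (p := @Hoch.cocycles k _ A _ _ V _ _ c n)
      (q := @Hoch.cocycles k _ A _ _ V' _ _ c' n) (fun x hx => by
        change @Hoch.d k _ A _ _ V' _ _ c' n (cm f n x) = 0
        rw [cm_d_apply h]
        have : @Hoch.d k _ A _ _ V _ _ c n x = 0 := hx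
        rw [this, map_zero]) x := Subtype.ext e
  rw [this]
  rfl

theorem mk_surjective (c : HopfRep.Comod k A V) (n : ℕ) :
    Function.Surjective (@Hoch.H.mk k _ A _ _ V _ _ c n) := Submodule.mkQ_surjective _

theorem mk_eq_zero_iff (c : HopfRep.Comod k A V) (n : ℕ) (x : @Hoch.cocycles k _ A _ _ V _ _ c n) :
    @Hoch.H.mk k _ A _ _ V _ _ c n x = 0 ↔ (x : (Hoch.cochain k A V n : Type u)) ∈
      @Hoch.coboundaries k _ A _ _ V _ _ c n := by
  change Submodule.Quotient.mk x = 0 ↔ _
  rw [Submodule.Quotient.mk_eq_zero]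
  rfl

/-- middle exactness -/
theorem mapH_exact [Module.Flat k A] {c : HopfRep.Comod k A V} {c' : HopfRep.Comod k A V'}
    {c'' : HopfRep.Comod k A V''} {f : V →ₗ[k] V'} {g : V' →ₗ[k] V''} (hf : Hom c c' f) (hg : Hom c' c'' g)
    (hi : Function.Injective f) (he : Function.Exact f g) (hs : Function.Surjective g) (n : ℕ) :
    LinearMap.ker (mapH g hg n) ≤ LinearMap.range (mapH f hf n) := by
  intro a ha
  obtain ⟨⟨x, hx⟩, rfl⟩ := mk_surjective c' n a
  have hx0 : @Hoch.d k _ A _ _ V' _ _ c' n x = 0 := hx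
  have hgx : @Hoch.d k _ A _ _ V'' _ _ c'' n (cm g n x) = 0 := by rw [cm_d_apply hg, hx0, map_zero]
  rw [LinearMap.mem_ker, mapH_mk g hg n ⟨x, hx⟩ ⟨cm g n x, hgx⟩ rfl, mk_eq_zero_iff] at ha
  -- produce a cochain z with g z = 0 and z cohomologous to x
  have key : ∃ z : (Hoch.cochain k A V' n : Type u), cm g n z = 0 ∧
      @Hoch.d k _ A _ _ V' _ _ c' n z = 0 ∧ x - z ∈ @Hoch.coboundaries k _ A _ _ V' _ _ c' n := by
    cases n with
    | zero => exact ⟨x, ha, hx0, by rw [sub_self]; exact Submodule.zero_mem _⟩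
    | succ n =>
      obtain ⟨y'', hy''⟩ := ha
      obtain ⟨y, rfl⟩ := cm_surjective (A := A) hs n y''
      refine ⟨x - @Hoch.d k _ A _ _ V' _ _ c' n y, ?_, ?_, ?_⟩
      · rw [map_sub, ← cm_d_apply hg, hy'']
        exact sub_self _
      · rw [map_sub, hx0, @K915.HochDSq.dd_apply k _ A _ _ V' _ _ c' n y, sub_self]
      · rw [sub_sub_cancel]
        exact ⟨y, rfl⟩
  obtain ⟨z, hz1, hz2, hz3⟩ := key
  obtain ⟨w, hw⟩ := (cm_exact (A := A) he hs n z).1 hz1
  have hdw : @Hoch.d k _ A _ _ V _ _ c n w = 0 := by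
    apply cm_injective (A := A) hi (n + 1)
    rw [← cm_d_apply hf, hw, hz2, map_zero]
  refine ⟨@Hoch.H.mk k _ A _ _ V _ _ c n ⟨w, hdw⟩, ?_⟩
  rw [mapH_mk f hf n ⟨w, hdw⟩ ⟨z, hz2⟩ hw.symm]
  rw [← sub_eq_zero, ← map_sub, mk_eq_zero_iff]
  have : ((⟨z, hz2⟩ - ⟨x, hx⟩ : @Hoch.cocycles k _ A _ _ V' _ _ c' n) : (Hoch.cochain k A V' n : Type u)) =
      -(x - z) := by
    simp
  rw [this]
  exact Submodule.neg_mem _ hz3

theorem subsingleton_of_exact [Module.Flat k A] {c : HopfRep.Comod k A V} {c' : HopfRep.Comod k A V'}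
    {c'' : HopfRep.Comod k A V''} {f : V →ₗ[k] V'} {g : V' →ₗ[k] V''} (hf : Hom c c' f) (hg : Hom c' c'' g)
    (hi : Function.Injective f) (he : Function.Exact f g) (hs : Function.Surjective g) (n : ℕ)
    (h1 : Subsingleton (@Hoch.H k _ A _ _ V _ _ c n)) (h2 : Subsingleton (@Hoch.H k _ A _ _ V'' _ _ c'' n)) :
    Subsingleton (@Hoch.H k _ A _ _ V' _ _ c' n) := by
  refine subsingleton_of_forall_eq 0 fun a => ?_
  obtain ⟨b, hb⟩ := mapH_exact hf hg hi he hs n (show a ∈ LinearMap.ker (mapH g hg n) from Subsingleton.elim _ _)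
  rw [← hb, Subsingleton.elim b 0, map_zero]

theorem finite_of_exact [IsNoetherianRing k] [Module.Flat k A] {c : HopfRep.Comod k A V}
    {c' : HopfRep.Comod k A V'} {c'' : HopfRep.Comod k A V''} {f : V →ₗ[k] V'} {g : V' →ₗ[k] V''}
    (hf : Hom c c' f) (hg : Hom c' c'' g) (hi : Function.Injective f) (he : Function.Exact f g)
    (hs : Function.Surjective g) (n : ℕ) (h1 : Module.Finite k (@Hoch.H k _ A _ _ V _ _ c n))
    (h2 : Module.Finite k (@Hoch.H k _ A _ _ V'' _ _ c'' n)) :
    Module.Finite k (@Hoch.H k _ A _ _ V' _ _ c' n) := by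
  have hr : (LinearMap.range (mapH g hg n)).FG := IsNoetherian.noetherian _
  have hk : (LinearMap.ker (mapH g hg n)).FG := by
    haveI : Module.Finite k (LinearMap.range (mapH f hf n)) := inferInstance
    haveI : IsNoetherian k (LinearMap.range (mapH f hf n)) := isNoetherian_of_isNoetherianRing_of_finite k _
    haveI : IsNoetherian k (LinearMap.ker (mapH g hg n)) :=
      isNoetherian_of_le (mapH_exact hf hg hi he hs n)
    exact Module.Finite.iff_fg.1 (inferInstance)
  refine ⟨Submodule.fg_of_fg_map_of_fg_inf_ker (mapH g hg n) ?_ ?_⟩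
  · rw [Submodule.map_top]
    exact hr
  · rw [top_inf_eq]
    exact hk

end Map

end Groth.Agent.ResProp.EF.K981
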