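import Groth.Agent.ResProp.EF.K981.Small
import Groth.Agent.ResProp.EF.K981.HMid
import Groth.Agent.ResProp.EF.K83.FinDatum
import Mathlib.Algebra.Module.Torsion.Basic
import Mathlib.RingTheory.Ideal.Quotient.Operations

/-!
# Cohomology of small objects (S16912, block G6b, helper981)
-/

set_option autoImplicit false

universe u

open TensorProduct

noncomputable section

namespace Groth.Agent.ResProp.EF.K981

section SubQuot

variable {k : Type u} [CommRing k] {O : Type u} [CommRing O] [Bialgebra k O]
  {P : Type u} [CommRing P] [Algebra k P]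
  {V : Type u} [AddCommGroup V] [Module k V] [Module P V] [IsScalarTower k P V]

/-- the structure on a stable submodule -/
@[reducible] def subC [Module.Flat k O] (c : HopfRep.Comod k O V) (W : Submodule P V) (h : Stable c W) :
    HopfRep.Comod k O W :=
  ComodSub.Comod.restr c (W.restrictScalars k) ((stable_iff c W).1 h)

theorem subC_hom [Module.Flat k O] (c : HopfRep.Comod k O V) (W : Submodule P V) (h : Stable c W) :
    Equi (subC c W h) c W.subtype := fun w =>
  (ComodSub.restr_coact_coe c (W.restrictScalars k) ((stable_iff c W).1 h) w).symm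

/-- the structure on the quotient -/
@[reducible] def quotC (c : HopfRep.Comod k O V) (W : Submodule P V) (h : Stable c W) :
    HopfRep.Comod k O (V ⧸ W) :=
  ComodSub.Comod.quot c (W.restrictScalars k) ((stable_iff c W).1 h)

theorem quotC_hom (c : HopfRep.Comod k O V) (W : Submodule P V) (h : Stable c W) :
    Equi c (quotC c W h) W.mkQ := fun _ => rfl

theorem Equi.hom {V' : Type u} [AddCommGroup V'] [Module k V'] [Module P V'] [IsScalarTower k P V']
    {c : HopfRep.Comod k O V} {c' : HopfRep.Comod k O V'} {f : V →ₗ[P] V'} (h : Equi c c' f) :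
    Hom c c' (f.restrictScalars k) := LinearMap.ext h

end SubQuot

section Tors

variable {P : Type u} [CommRing P] {D : Type u} [CommRing D] (π : P →+* D) (hπ : Function.Surjective π)
  (N : Type u) [AddCommGroup N] [Module P N]

/-- a `P`-module killed by `ker π` is a `D`-module -/
@[reducible] def modD (h : ∀ p : P, π p = 0 → ∀ n : N, p • n = 0) : Module D N :=
  letI : Module (P ⧸ RingHom.ker π) N :=
    Module.IsTorsionBySet.module (M := N) (I := RingHom.ker π) (fun n p => h p.1 p.2 n)
  Module.compHom N (RingHom.quotientKerEquivOfSurjective hπ).symm.toRingHom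

theorem modD_smul (h : ∀ p : P, π p = 0 → ∀ n : N, p • n = 0) (p : P) (n : N) :
    letI := modD π hπ N h
    π p • n = p • n := by
  letI : Module (P ⧸ RingHom.ker π) N :=
    Module.IsTorsionBySet.module (M := N) (I := RingHom.ker π) (fun n p => h p.1 p.2 n)
  change (RingHom.quotientKerEquivOfSurjective hπ).symm (π p) • n = p • n
  have : (RingHom.quotientKerEquivOfSurjective hπ).symm (π p) = Ideal.Quotient.mk _ p := by
    rw [RingEquiv.symm_apply_eq]
    rfl
  rw [this]
  rfl

end Tors

section Gr

variable {R : Type u} [CommRing R] {A : Type u} [CommRing A] [HopfAlgebra R A]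
  {P : Type u} [CommRing P] [Algebra R P] {D : Type u} [CommRing D] [Algebra R D]
  {π : P →ₐ[R] D} {cD : K83.CoAlg R A D}
  {V : Type u} [AddCommGroup V] [Module R V] [Module P V] [IsScalarTower R P V]

/-- the top quotient of a small filtration is a Hopf module -/
theorem exists_hopfMod (hπ : Function.Surjective π) {c : HopfRep.Comod R A V} (s : SmallFil (P := P) π cD.ρ c) :
    ∃ (_ : Module D (V ⧸ s.F 1)) (_ : IsScalarTower R D (V ⧸ s.F 1)),
      K83.IsHopfMod cD (V ⧸ s.F 1) (quotC c (s.F 1) (s.stable 1)) ∧
      (Module.Finite P V → Module.Finite D (V ⧸ s.F 1)) := by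
  have hk : ∀ p : P, π p = 0 → ∀ n : V ⧸ s.F 1, p • n = 0 := by
    intro p hp n
    obtain ⟨v, rfl⟩ := Submodule.Quotient.mk_surjective _ n
    rw [← Submodule.Quotient.mk_smul, Submodule.Quotient.mk_eq_zero]
    exact s.ker_smul 0 p hp v (by rw [s.zero]; trivial)
  letI := modD (π : P →+* D) hπ (V ⧸ s.F 1) hk
  have hsm : ∀ (p : P) (n : V ⧸ s.F 1), π p • n = p • n := modD_smul (π : P →+* D) hπ (V ⧸ s.F 1) hk
  have htw : IsScalarTower R D (V ⧸ s.F 1) := by
    refine ⟨fun r d n => ?_⟩
    obtain ⟨p, rfl⟩ := hπ d
    rw [← map_smul, hsm, hsm, smul_assoc]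
  refine ⟨this, htw, ⟨fun d n => ?_⟩, fun hfin => ?_⟩
  · obtain ⟨p, rfl⟩ := hπ d
    obtain ⟨v, rfl⟩ := Submodule.Quotient.mk_surjective _ n
    obtain ⟨x, hx⟩ := exists_isLift π cD.ρ hπ p
    rw [hsm, ← Submodule.Quotient.mk_smul]
    have h1 := s.semi 0 p x hx v (by rw [s.zero]; trivial)
    rw [map_sub, sub_eq_zero] at h1
    change mq (k := R) (O := A) (s.F 1) (c.coact (p • v)) = _
    rw [h1]
    unfold mq
    rw [act_rTensor]
    change _ = TensorProduct.map₂ (Algebra.lsmul R R (V ⧸ s.F 1)).toLinearMap (LinearMap.mul R A) (cD.ρ (π p))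
      ((((s.F 1).mkQ).restrictScalars R).rTensor A (c.coact v))
    rw [← hx]
    generalize (((s.F 1).mkQ).restrictScalars R).rTensor A (c.coact v) = y
    clear h1 hx
    induction x with
    | zero => simp
    | add a b ha hb => simp only [map_add, LinearMap.add_apply, ha, hb]
    | tmul q a =>
      induction y with
      | zero => simp
      | add a b ha hb => simp only [map_add, ha, hb]
      | tmul w b =>
        rw [act_tmul, LinearMap.rTensor_tmul, TensorProduct.map₂_apply_tmul]
        change _ = (π q • w) ⊗ₜ[R] (a * b)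
        rw [hsm]
  · haveI : Module.Finite P (V ⧸ s.F 1) := inferInstance
    obtain ⟨S, hS⟩ := this.fg_top
    refine ⟨⟨S, ?_⟩⟩
    rw [eq_top_iff]
    intro n _
    have hn : n ∈ Submodule.span P (S : Set (V ⧸ s.F 1)) := by rw [hS]; trivial
    induction hn using Submodule.span_induction with
    | mem x hx => exact Submodule.subset_span hx
    | zero => exact Submodule.zero_mem _
    | add x y _ _ hx hy => exact Submodule.add_mem _ (hx trivial) (hy trivial)
    | smul p x _ hx =>
      rw [← hsm]
      exact Submodule.smul_mem _ _ (hx trivial)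

/-- the tail of a small filtration, on the first step -/
def SmallFil.tail [Module.Flat R A] {c : HopfRep.Comod R A V} (s : SmallFil (P := P) π cD.ρ c) :
    SmallFil (P := P) π cD.ρ (subC c (s.F 1) (s.stable 1)) where
  n := s.n - 1
  F i := (s.F (i + 1)).comap (s.F 1).subtype
  anti i := Submodule.comap_mono (s.anti (i + 1))
  zero := by
    rw [eq_top_iff]
    intro v _
    exact v.2
  last := by
    rcases Nat.eq_zero_or_pos s.n with h | h
    · have h0 : s.F 0 = ⊥ := by rw [← h]; exact s.last
      have h1 : s.F 1 = ⊥ := by rw [eq_bot_iff, ← h0]; exact s.anti 0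
      rw [eq_bot_iff]
      intro v hv
      have : (v : V) ∈ (⊥ : Submodule P V) := h1.le v.2
      exact Subtype.ext this
    · rw [Nat.sub_add_cancel h, s.last]
      exact LinearMap.ker_eq_bot.2 (Submodule.injective_subtype _)
  stable i := (s.stable (i + 1)).comap (subC_hom c (s.F 1) (s.stable 1))
  ker_smul i p hp v hv := s.ker_smul (i + 1) p hp v hv
  semi i p x hx v hv := by
    apply mq_comap (s.F 1).subtype
    rw [map_sub, act_rTensor, ← subC_hom c (s.F 1) (s.stable 1), ← subC_hom c (s.F 1) (s.stable 1), map_smul]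
    exact s.semi (i + 1) p x hx _ hv

/-- cohomology of the zero module -/
theorem subsingleton_H_of_subsingleton [Module.Flat R A] (c : HopfRep.Comod R A V) [Subsingleton V] (j : ℕ) :
    Subsingleton (@Hoch.H R _ A _ _ V _ _ c j) := by
  have h : ∀ n, Subsingleton (Hoch.cochain R A V n : Type u) := by
    intro n
    induction n with
    | zero => exact ‹Subsingleton V›
    | succ n ih =>
      refine subsingleton_of_forall_eq 0 fun x => ?_
      induction x using TensorProduct.induction_on with
      | zero => rfl
      | add a b ha hb => rw [ha, hb, add_zero]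
      | tmul a b => rw [Subsingleton.elim a 0, TensorProduct.zero_tmul]
  have := h j
  infer_instance

end Gr

/-- **Cohomology of small objects.** -/
theorem small_H {R : Type u} [CommRing R] [IsNoetherianRing R] {A : Type u} [CommRing A] [HopfAlgebra R A]
    [Module.Flat R A] {P : Type u} [CommRing P] [Algebra R P] {D : Type u} [CommRing D] [Algebra R D]
    {π : P →ₐ[R] D} (hπ : Function.Surjective π) {cD : K83.CoAlg R A D} {r : ℕ}
    (hfin : K83.FinOut R A D cD r) :
    ∀ (n : ℕ) (V : Type u) [AddCommGroup V] [Module R V] [Module P V] [IsScalarTower R P V]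
      (c : HopfRep.Comod R A V) (s : SmallFil (P := P) π cD.ρ c), s.n = n →
      (∀ j, r < j → Subsingleton (@Hoch.H R _ A _ _ V _ _ c j)) ∧
      (IsNoetherianRing P → Module.Finite P V → ∀ j, Module.Finite R (@Hoch.H R _ A _ _ V _ _ c j)) := by
  intro n
  induction n with
  | zero =>
    intro V _ _ _ _ c s hs
    have h0 : (⊤ : Submodule P V) = ⊥ := by rw [← s.zero, ← s.last, hs]
    have hV : Subsingleton V := (Submodule.subsingleton_iff P).1 (subsingleton_of_bot_eq_top h0.symm)
    refine ⟨fun j _ => subsingleton_H_of_subsingleton c j, fun _ _ j => ?_⟩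
    have := subsingleton_H_of_subsingleton c j
    infer_instance
  | succ n ih =>
    intro V _ _ _ _ c s hs
    obtain ⟨mD, tw, hM, hMf⟩ := exists_hopfMod hπ s
    have h1 := ih (s.F 1) (subC c (s.F 1) (s.stable 1)) s.tail (by
      change s.n - 1 = n
      rw [hs]; rfl)
    have h2 := @hfin (V ⧸ s.F 1) _ _ mD tw (quotC c (s.F 1) (s.stable 1)) hM
    have ha := (subC_hom c (s.F 1) (s.stable 1)).hom
    have hb := (quotC_hom c (s.F 1) (s.stable 1)).hom
    have hi : Function.Injective ((s.F 1).subtype.restrictScalars R) := (s.F 1).injective_subtype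
    have he : Function.Exact ((s.F 1).subtype.restrictScalars R) ((s.F 1).mkQ.restrictScalars R) := by
      intro y
      simp
    have hsu : Function.Surjective ((s.F 1).mkQ.restrictScalars R) := (s.F 1).mkQ_surjective
    refine ⟨fun j hj => subsingleton_of_exact ha hb hi he hsu j (h1.1 j hj) (h2.1 j hj), fun hP hV j => ?_⟩
    have : Module.Finite P (s.F 1) := by
      have : IsNoetherian P V := isNoetherian_of_isNoetherianRing_of_finite P V
      infer_instance
    exact finite_of_exact ha hb hi he hsu j (h1.2 hP this j) (h2.2 (hMf hV) j)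


end Groth.Agent.ResProp.EF.K981
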