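import Groth.Agent.ResProp.EF.K945.TensN
import Groth.Agent.ResProp.EF.K967.ChartC
import Groth.Agent.ResProp.EF.K679.TwR

/-!
# [CHART]: finiteness and vanishing of the total cobar complexes (S16912, G6c, helper981)

`ME = (GO R O).Coalgebra`, `O` a flat Hopf algebra over the Noetherian ring `R`; `Kf ⟵ K' ⟶ Kc` quasi-isomorphisms of
complexes in `ME`, `Kf` bounded and flat, `Kc` bounded with `P`-action and small terms; `Θ(V) = Cob(V ⊗ F)`.
`fin_h`, `van_h` : the hypotheses `h` of `K654.serre_of`, `K654.van_of`.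
-/

set_option autoImplicit false
set_option backward.defeqAttrib.useBackward true
set_option backward.isDefEq.respectTransparency false

universe u

noncomputable section

namespace Groth.Agent.ResProp.EF.K981.ChartFV

open CategoryTheory CategoryTheory.Limits HomologicalComplex TensorProduct
open Groth.Agent.ResProp.EF.K496 Groth.Agent.ResProp.EF.K945

section Inst

variable (R : Type u) [CommRing R] (O : Type u) [CommRing O] [Bialgebra R O]

/-- coalgebras over `GO R O` are comodules -/
def coF : K967.CoFun O (GO R O).forget where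
  co M := toComod M
  equi f m := LinearMap.congr_fun (isComodHom f) m

/-- the tensor product with a module -/
def tensF : K967.TensFun (coF R O) (sGO R O).bifunctor where
  τ M N := LinearEquiv.refl R (M.A ⊗[R] N)
  nat₁ f N x := rfl
  nat₂ M {N N'} g x := rfl
  co M N x := by
    have h := tw_coact M N x
    change (LinearEquiv.refl R (M.A ⊗[R] N)).toLinearMap.rTensor O (tw R O M.A N ((coactOf M).rTensor N x)) = _
    rw [h]
    exact LinearMap.congr_fun (LinearMap.rTensor_id O (M.A ⊗[R] N)) _

end Inst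

section Hoch

variable {R : Type u} [CommRing R] {O : Type u} [CommRing O] [Bialgebra R O]

/-- cohomology along an isomorphism of coalgebras -/
def hochIso {M M' : (GO R O).Coalgebra} (f : M ≅ M') (n : ℕ) :
    @Hoch.H R _ O _ _ M.A _ _ (toComod M) n ≃ₗ[R] @Hoch.H R _ O _ _ M'.A _ _ (toComod M') n :=
  (cobEquiv M n).symm ≪≫ₗ
    ((homologyFunctor _ _ (n : ℤ)).mapIso ((UO R O).Cob.mapIso f)).toLinearEquiv ≪≫ₗ cobEquiv M' n

end Hoch

section Theta

variable {R : Type u} [CommRing R] {O : Type u} [CommRing O] [HopfAlgebra R O] [Module.Flat R O]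
  {P : Type u} [CommRing P] [Algebra R P] {E : Type u} [CommRing E] [Algebra R E] {π : P →ₐ[R] E}
  {cE : K83.CoAlg R O E} {r₀ : ℕ}
  {W : Type u} [AddCommGroup W] [Module R W] (dF : HopfRep.Comod R O W)

/-- `Θ(V) = Cob(V ⊗ F)` -/
abbrev Th {R : Type u} [CommRing R] {O : Type u} [CommRing O] [HopfAlgebra R O]
    {W : Type u} [AddCommGroup W] [Module R W] (dF : HopfRep.Comod R O W) :
    (GO R O).Coalgebra ⥤ CochainComplex (ModuleCat.{u} R) ℤ :=
  K679.TwR.twR dF ⋙ (UO R O).Cob

variable [IsNoetherianRing R] (hπ : Function.Surjective π) (hfin : K83.FinOut R O E cE r₀)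

include hπ hfin in
/-- finiteness for a small object -/
theorem fin_small (M : (GO R O).Coalgebra) [Module P ((GO R O).forget.obj M)]
    [IsScalarTower R P ((GO R O).forget.obj M)] (h : K981.Small (P := P) π cE.ρ ((coF R O).co M))
    (hP : IsNoetherianRing P) (hM : Module.Finite P ((GO R O).forget.obj M)) [hW : Module.Finite R W] (j : ℤ) :
    Module.Finite R (((Th dF).obj M).homology j) := by
  by_cases hj : j < 0
  · have h0 : IsZero (((Th dF).obj M).homology j) := isZero_homology_neg ((K679.TwR.twR dF).obj M) j hj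
    have := ModuleCat.subsingleton_of_isZero h0
    infer_instance
  · obtain ⟨m, rfl⟩ := Int.eq_ofNat_of_zero_le (not_lt.mp hj)
    have h5 : Module.Finite R (@Hoch.H R _ O _ _ ((K679.TwR.twR dF).obj M).A _ _
        (toComod ((K679.TwR.twR dF).obj M)) m) :=
      (K967.cohSmall hπ hfin ((coF R O).co M) dF h).2 hP hM hW m
    exact Module.Finite.equiv (cobEquiv ((K679.TwR.twR dF).obj M) m).symm

include hπ hfin in
/-- vanishing for a small object -/
theorem van_small (M : (GO R O).Coalgebra) [Module P ((GO R O).forget.obj M)]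
    [IsScalarTower R P ((GO R O).forget.obj M)] (h : K981.Small (P := P) π cE.ρ ((coF R O).co M))
    (j : ℤ) (hj : (r₀ : ℤ) < j) : IsZero (((Th dF).obj M).homology j) := by
  obtain ⟨m, rfl⟩ := Int.eq_ofNat_of_zero_le (show 0 ≤ j by lia)
  have h5 : Subsingleton (@Hoch.H R _ O _ _ ((K679.TwR.twR dF).obj M).A _ _
      (toComod ((K679.TwR.twR dF).obj M)) m) :=
    (K967.cohSmall hπ hfin ((coF R O).co M) dF h).1 m (by exact_mod_cast hj)
  have h1 : Subsingleton (((Th dF).obj M).homology (m : ℤ)) :=
    (cobEquiv ((K679.TwR.twR dF).obj M) m).injective.subsingleton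
  exact ModuleCat.isZero_of_subsingleton _

variable {Kf K' Kc : CochainComplex (GO R O).Coalgebra ℤ} (r : K' ⟶ Kf) (s : K' ⟶ Kc) [QuasiIso r] [QuasiIso s]
  [∀ i, Module P ((GO R O).forget.obj (Kc.X i))] [∀ i, IsScalarTower R P ((GO R O).forget.obj (Kc.X i))]
  (hd : ∀ i j, K967.PLin P ((GO R O).forget.map (Kc.d i j)))
  (hs : ∀ i, K981.Small (P := P) π cE.ρ ((coF R O).co (Kc.X i)))

include hπ hfin r s hd hs in
/-- **Finiteness** (hypothesis `h` of `K654.serre_of`). -/
theorem fin_h (hP : IsNoetherianRing P) (hK : ∀ i, Module.Finite P ((GO R O).forget.obj (Kc.X i)))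
    [Module.Finite R W] (i j : ℤ) : Module.Finite R (((Th dF).obj (Kf.homology i)).homology j) := by
  obtain ⟨m, t, h1, h2⟩ := K967.small_homology (P := P) (π := π) (ρD := cE.ρ) (coF R O) Kc hd i (hs i)
  have h3 := fin_small dF hπ hfin (Kc.homology i) h1 hP (h2 hP (hK i)) j
  let e : Kf.homology i ≅ Kc.homology i :=
    (asIso (HomologicalComplex.homologyMap r i)).symm ≪≫ asIso (HomologicalComplex.homologyMap s i)
  let f : ((Th dF).obj (Kc.homology i)).homology j ≅ ((Th dF).obj (Kf.homology i)).homology j :=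
    (homologyFunctor _ _ j).mapIso ((Th dF).mapIso e.symm)
  exact Module.Finite.equiv f.toLinearEquiv

include hπ hfin r s hd hs in
/-- **Vanishing** (hypothesis `h` of `K654.van_of`). -/
theorem van_h (a b b' : ℤ) [Kc.IsStrictlyGE a] [Kc.IsStrictlyLE b] [Kf.IsStrictlyLE b']
    (hKf : ∀ n, Module.Flat R ((GO R O).forget.obj (Kf.X n))) (N : ModuleCat.{u} R) (i j : ℤ) (hj : (r₀ : ℤ) < j) :
    IsZero (((Th dF).obj
      (((((sGO R O).bifunctor.flip.obj N).mapHomologicalComplex (ComplexShape.up ℤ)).obj Kf).homology i)).homology j) := by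
  have hab : ∀ i, (i < a ∨ b < i) → Subsingleton ((GO R O).forget.obj (Kc.X i)) := by
    intro i hi
    have h0 : IsZero (Kc.X i) := by
      rcases hi with hi | hi
      · exact Kc.isZero_of_isStrictlyGE a i hi
      · exact Kc.isZero_of_isStrictlyLE b i hi
    exact ModuleCat.subsingleton_of_isZero ((GO R O).forget.map_isZero h0)
  obtain ⟨m, t, h1, -⟩ := K967.chart_small (P := P) (π' := π) (ρE := cE.ρ) (tensF R O) Kc hd a b hab hs (res N) i
  obtain ⟨e⟩ := chart_roof (sGO R O) r s b' hKf N i
  have h3 := van_small dF hπ hfin _ h1 j hj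
  exact h3.of_iso ((homologyFunctor _ _ j).mapIso ((Th dF).mapIso e))

end Theta

end Groth.Agent.ResProp.EF.K981.ChartFV
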