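import Groth.Agent.ResProp.EF.K981.Small

/-!
# Small objects are closed under extensions (S16912, block G6b, helper981)
-/

set_option autoImplicit false

universe u

open TensorProduct

noncomputable section

namespace Groth.Agent.ResProp.EF.K981

variable {k : Type u} [CommRing k] {O : Type u} [CommRing O] [Bialgebra k O]
  {P : Type u} [CommRing P] [Algebra k P] {D : Type u} [CommRing D] [Algebra k D]
  {π : P →ₐ[k] D} {ρD : D →ₐ[k] D ⊗[k] O}
  {V : Type u} [AddCommGroup V] [Module k V] [Module P V] [IsScalarTower k P V]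
  {V' : Type u} [AddCommGroup V'] [Module k V'] [Module P V'] [IsScalarTower k P V']
  {V'' : Type u} [AddCommGroup V''] [Module k V''] [Module P V''] [IsScalarTower k P V'']

theorem SmallFil.zero_le (c : HopfRep.Comod k O V) (s : SmallFil (P := P) π ρD c) (i : ℕ) (hi : s.n ≤ i) :
    s.F i = ⊥ := by
  induction i, hi using Nat.le_induction with
  | base => exact s.last
  | succ i _ ih => rw [eq_bot_iff, ← ih]; exact s.anti i

theorem Small.ext [Module.Flat k O] {c : HopfRep.Comod k O V} {c' : HopfRep.Comod k O V'}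
    {c'' : HopfRep.Comod k O V''} (f : V →ₗ[P] V') (g : V' →ₗ[P] V'') (hf : Equi c c' f) (hg : Equi c' c'' g)
    (hinj : Function.Injective f) (he : Function.Exact f g) (hsurj : Function.Surjective g)
    (h : Small (P := P) π ρD c) (h'' : Small (P := P) π ρD c'') : Small (P := P) π ρD c' := by
  obtain ⟨s⟩ := h
  obtain ⟨t⟩ := h''
  have hke : LinearMap.ker g = LinearMap.range f := by
    ext v
    exact he v
  have e0 : (t.F t.n).comap g = (s.F 0).map f := by
    rw [t.last, s.zero, Submodule.map_top, ← hke]
    rfl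
  refine ⟨⟨t.n + s.n, fun i => if i ≤ t.n then (t.F i).comap g else (s.F (i - t.n)).map f, ?_, ?_, ?_, ?_, ?_, ?_⟩⟩
  · intro i
    rcases Nat.lt_or_ge i t.n with hi | hi
    · rw [if_pos (Nat.succ_le_of_lt hi), if_pos hi.le]
      exact Submodule.comap_mono (t.anti i)
    · have h1 : ¬ (i + 1 ≤ t.n) := by omega
      rw [if_neg h1]
      have h2 : (if i ≤ t.n then (t.F i).comap g else (s.F (i - t.n)).map f) = (s.F (i - t.n)).map f := by
        rcases Nat.eq_or_lt_of_le hi with hi' | hi'
        · rw [if_pos hi'.symm.le, ← hi', Nat.sub_self, e0]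
        · rw [if_neg (by omega)]
      rw [h2]
      have h3 : i + 1 - t.n = (i - t.n) + 1 := by omega
      rw [h3]
      exact Submodule.map_mono (s.anti _)
  · rw [if_pos (Nat.zero_le _), t.zero]
    rfl
  · rcases Nat.eq_zero_or_pos s.n with hs | hs
    · rw [hs, Nat.add_zero, if_pos le_rfl, e0]
      have : s.F 0 = ⊥ := by rw [← hs]; exact s.last
      rw [this, Submodule.map_bot]
    · rw [if_neg (by omega), Nat.add_sub_cancel_left, s.last, Submodule.map_bot]
  · intro i
    by_cases hi : i ≤ t.n
    · rw [if_pos hi]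
      exact (t.stable i).comap hg
    · rw [if_neg hi]
      exact (s.stable _).map hf
  · intro i p hp v hv
    rcases Nat.lt_or_ge i t.n with hi | hi
    · rw [if_pos hi.le] at hv
      rw [if_pos (Nat.succ_le_of_lt hi)]
      simp only [Submodule.mem_comap, map_smul]
      exact t.ker_smul i p hp _ hv
    · have h1 : ¬ (i + 1 ≤ t.n) := by omega
      rw [if_neg h1]
      have h2 : (if i ≤ t.n then (t.F i).comap g else (s.F (i - t.n)).map f) = (s.F (i - t.n)).map f := by
        rcases Nat.eq_or_lt_of_le hi with hi' | hi'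
        · rw [if_pos hi'.symm.le, ← hi', Nat.sub_self, e0]
        · rw [if_neg (by omega)]
      rw [h2] at hv
      have h3 : i + 1 - t.n = (i - t.n) + 1 := by omega
      rw [h3]
      obtain ⟨w, hw, rfl⟩ := hv
      rw [← map_smul]
      exact Submodule.mem_map_of_mem (s.ker_smul _ p hp w hw)
  · intro i p x hx v hv
    rcases Nat.lt_or_ge i t.n with hi | hi
    · rw [if_pos hi.le] at hv
      rw [if_pos (Nat.succ_le_of_lt hi)]
      apply mq_comap g
      rw [map_sub, act_rTensor, ← hg, ← hg, map_smul]
      exact t.semi i p x hx _ hv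
    · have h1 : ¬ (i + 1 ≤ t.n) := by omega
      rw [if_neg h1]
      have h2 : (if i ≤ t.n then (t.F i).comap g else (s.F (i - t.n)).map f) = (s.F (i - t.n)).map f := by
        rcases Nat.eq_or_lt_of_le hi with hi' | hi'
        · rw [if_pos hi'.symm.le, ← hi', Nat.sub_self, e0]
        · rw [if_neg (by omega)]
      rw [h2] at hv
      have h3 : i + 1 - t.n = (i - t.n) + 1 := by omega
      rw [h3]
      obtain ⟨w, hw, rfl⟩ := hv
      rw [← map_smul, hf, hf, ← act_rTensor, ← map_sub]
      exact mq_eq_zero_of_map f (s.F (i - t.n + 1)) _ (Submodule.le_comap_map f _) _ (s.semi _ p x hx w hw)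

/-- objects with a one step filtration -/
theorem Small.of_pure {c : HopfRep.Comod k O V}
    (h1 : ∀ p : P, π p = 0 → ∀ v : V, p • v = 0)
    (h2 : ∀ (p : P) (x : P ⊗[k] O), IsLift π ρD p x → ∀ v : V, c.coact (p • v) = act k O P V x (c.coact v)) :
    Small (P := P) π ρD c := by
  refine ⟨⟨1, fun i => if i = 0 then ⊤ else ⊥, ?_, by simp, by simp, ?_, ?_, ?_⟩⟩
  · intro i
    rw [if_neg (Nat.succ_ne_zero i)]
    exact bot_le
  · intro i
    by_cases hi : i = 0
    · rw [if_pos hi]; exact Stable.top c
    · rw [if_neg hi]; exact Stable.bot c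
  · intro i p hp v _
    rw [h1 p hp v]
    exact Submodule.zero_mem _
  · intro i p x hx v _
    rw [h2 p x hx v, sub_self, map_zero]

theorem Small.of_subsingleton {c : HopfRep.Comod k O V} [Subsingleton V] : Small (P := P) π ρD c :=
  Small.of_pure (fun _ _ _ => Subsingleton.elim _ _) (fun p x _ v => by
    have h0 : (0 : V) = v := Subsingleton.elim _ _
    rw [← h0]
    simp)

end Groth.Agent.ResProp.EF.K981
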