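import Groth.Agent.ResProp.EF.K981.SmallH
import Groth.Agent.ResProp.EF.K981.SmallExt
import Groth.Agent.ResProp.EF.K671.Iface

/-!
# `K671.IsSmall` is `K981.Small`; nodes B4a, B4b (S16912, block G6b, helper981)
-/

set_option autoImplicit false

universe u

open TensorProduct

noncomputable section

namespace Groth.Agent.ResProp.EF.K981

section

variable {R : Type u} [CommRing R] {A : Type u} [CommRing A] [HopfAlgebra R A]
  {P : Type u} [CommRing P] [Algebra R P] {D : Type u} [CommRing D] [Algebra R D]
  {N : Type u} [AddCommGroup N] [Module R N] [Module P N] [IsScalarTower R P N]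

theorem mem_range_iff' (W : Submodule P N) (x : N ⊗[R] A) :
    x ∈ LinearMap.range ((W.subtype.restrictScalars R).rTensor A) ↔ mq (k := R) (O := A) W x = 0 := by
  have h : Function.Exact (W.subtype.restrictScalars R) ((W.mkQ).restrictScalars R) := by
    intro y
    simp
  have h2 := rTensor_exact A h (by exact W.mkQ_surjective)
  exact (h2 x).symm

theorem stable_iff' (co : HopfRep.Comod R A N) (W : Submodule P N) :
    K671.IsStable co W ↔ Stable co W :=
  forall_congr' fun x => imp_congr_right fun _ => mem_range_iff' W _

/-- from the increasing filtrations of `K671` -/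
def ofK671 {π : P →ₐ[R] D} {c : K83.CoAlg R A D} {co : HopfRep.Comod R A N} {k : ℕ} {F : ℕ → Submodule P N}
    (h : K671.SmallFil π c co k F) : SmallFil (P := P) π c.ρ co where
  n := k
  F i := F (k - i)
  anti i := by
    rcases Nat.lt_or_ge i k with hi | hi
    · have : k - i = k - (i + 1) + 1 := by omega
      rw [this]
      exact h.mono _
    · have h1 : k - (i + 1) = k - i := by omega
      rw [h1]
  zero := h.top
  last := by rw [Nat.sub_self]; exact h.zero
  stable i := (stable_iff' co _).1 (h.stable _)
  ker_smul i p hp v hv := by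
    rcases Nat.lt_or_ge i k with hi | hi
    · have : k - i = k - (i + 1) + 1 := by omega
      rw [this] at hv
      exact h.ker _ p v hp hv
    · have h1 : k - i = 0 := by omega
      rw [h1, h.zero, Submodule.mem_bot] at hv
      rw [hv, smul_zero]
      exact Submodule.zero_mem _
  semi i p x hx v hv := by
    rcases Nat.lt_or_ge i k with hi | hi
    · have : k - i = k - (i + 1) + 1 := by omega
      rw [this] at hv
      exact (mem_range_iff' _ _).1 (h.semi _ p v x hv hx)
    · have h1 : k - i = 0 := by omega
      rw [h1, h.zero, Submodule.mem_bot] at hv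
      rw [hv]
      simp

theorem toK671 {π : P →ₐ[R] D} {c : K83.CoAlg R A D} {co : HopfRep.Comod R A N}
    (s : SmallFil (P := P) π c.ρ co) : K671.SmallFil π c co s.n (fun i => s.F (s.n - i)) where
  mono i := by
    rcases Nat.lt_or_ge i s.n with hi | hi
    · have : s.n - i = s.n - (i + 1) + 1 := by omega
      simp only [this]
      exact s.anti _
    · have h1 : s.n - (i + 1) = s.n - i := by omega
      simp only [h1]
      exact le_rfl
  zero := s.last
  top := by simp only [Nat.sub_self]; exact s.zero
  stable i := (stable_iff' co _).2 (s.stable _)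
  ker i p v hp hv := by
    rcases Nat.lt_or_ge i s.n with hi | hi
    · have : s.n - i = s.n - (i + 1) + 1 := by omega
      simp only [this]
      exact s.ker_smul _ p hp v hv
    · have h1 : s.n - (i + 1) = 0 := by omega
      have h2 : s.n - i = 0 := by omega
      simp only [h1] at hv
      simp only [h2]
      exact s.anti 0 (s.ker_smul 0 p hp v hv)
  semi i p v w hv hw := by
    rw [mem_range_iff']
    rcases Nat.lt_or_ge i s.n with hi | hi
    · have : s.F (s.n - i) = s.F (s.n - (i + 1) + 1) := by
        congr 1
        omega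
      change mq (s.F (s.n - i)) _ = 0
      rw [this]
      exact s.semi _ p w hw v hv
    · have h1 : s.F (s.n - (i + 1)) = s.F 0 := by
        congr 1
        omega
      have h2 : s.F (s.n - i) = s.F 0 := by
        congr 1
        omega
      change v ∈ s.F (s.n - (i + 1)) at hv
      rw [h1] at hv
      change mq (s.F (s.n - i)) _ = 0
      rw [h2]
      have h3 := s.semi 0 p w hw v hv
      rw [← mem_range_iff'] at h3 ⊢
      obtain ⟨y, hy⟩ := h3
      refine ⟨((Submodule.inclusion (s.anti 0)).restrictScalars R).rTensor A y, ?_⟩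
      refine Eq.trans ?_ hy
      rw [← LinearMap.comp_apply, ← LinearMap.rTensor_comp]
      rfl

theorem isSmall_iff {π : P →ₐ[R] D} {c : K83.CoAlg R A D} {co : HopfRep.Comod R A N} :
    K671.IsSmall π c co ↔ Small (P := P) π c.ρ co :=
  ⟨fun ⟨_, _, h⟩ => ⟨ofK671 h⟩, fun ⟨s⟩ => ⟨_, _, toK671 s⟩⟩

end

/-- **Node B4a** (F11). -/
theorem stmtSmallSubQuot : K671.StmtSmallSubQuot.{u} := by
  intro R _ A _ _ _ P _ _ D _ _ π hπ c N N' _ _ _ _ _ _ _ _ co co' f hf
  refine ⟨fun hi h => ?_, fun hs h => ?_⟩
  · rw [isSmall_iff] at h ⊢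
    exact Small.of_injective f hf.colin hi h
  · rw [isSmall_iff] at h ⊢
    exact Small.of_surjective f hf.colin hs h

/-- **Node B4b** (F12). -/
theorem stmtSmallOut : K671.StmtSmallOut.{u} := by
  intro R _ _ A _ _ _ P _ hP _ D _ _ π hπ c r hfin N _ _ _ _ co h
  rw [isSmall_iff] at h
  obtain ⟨s⟩ := h
  have := small_H hπ hfin s.n N co s rfl
  exact ⟨this.1, fun hN => this.2 hP hN⟩

end Groth.Agent.ResProp.EF.K981
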