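import Groth.Prelude.Def_ComodSub
import Mathlib.RingTheory.Flat.Basic
import Mathlib.LinearAlgebra.TensorProduct.RightExactness
import Mathlib.Algebra.Algebra.Bilinear
import Mathlib.RingTheory.Noetherian.Basic

/-!
# Small objects (S16912, block G6b, helper981)

`k` a commutative ring, `O` a flat bialgebra over `k` (coordinate ring of a group `E`), `P → D` a surjection of
commutative `k`-algebras, `ρD : D → D ⊗ O` a map (the coaction).  A `(P,O)`-module is a `P`-module with an `O`-coaction,
WITHOUT any compatibility.  A small filtration of a `(P,O)`-module is a finite filtration by stable submodules whose graded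
pieces are `(D,O)`-Hopf modules.  It passes to sub- and quotient objects, hence to the cohomology of complexes.
-/

set_option autoImplicit false

universe u

open TensorProduct

noncomputable section

namespace Groth.Agent.ResProp.EF.K981

section Act

variable (k : Type u) [CommRing k] (O : Type u) [CommRing O] [Algebra k O]
  (P : Type u) [CommRing P] [Algebra k P]
  (V : Type u) [AddCommGroup V] [Module k V] [Module P V] [IsScalarTower k P V]

/-- the action of `P ⊗ O` on `V ⊗ O` -/
def act : (P ⊗[k] O) →ₗ[k] (V ⊗[k] O) →ₗ[k] (V ⊗[k] O) :=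
  TensorProduct.map₂ (Algebra.lsmul k k V).toLinearMap (LinearMap.mul k O)

@[simp] theorem act_tmul (p : P) (a : O) (v : V) (b : O) :
    act k O P V (p ⊗ₜ a) (v ⊗ₜ b) = (p • v) ⊗ₜ (a * b) := rfl

variable {k O P V}
variable {V' : Type u} [AddCommGroup V'] [Module k V'] [Module P V'] [IsScalarTower k P V']

/-- naturality of the action -/
theorem act_rTensor (f : V →ₗ[P] V') (x : P ⊗[k] O) (y : V ⊗[k] O) :
    (f.restrictScalars k).rTensor O (act k O P V x y) =
      act k O P V' x ((f.restrictScalars k).rTensor O y) := by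
  induction x with
  | zero => simp
  | add a b ha hb => simp only [map_add, LinearMap.add_apply, ha, hb]
  | tmul p a =>
    induction y with
    | zero => simp
    | add a b ha hb => simp only [map_add, ha, hb]
    | tmul v b => simp

end Act

section Stable

variable {k : Type u} [CommRing k] {O : Type u} [CommRing O] [Bialgebra k O]
  {P : Type u} [CommRing P] [Algebra k P]
  {V : Type u} [AddCommGroup V] [Module k V] [Module P V] [IsScalarTower k P V]
  {V' : Type u} [AddCommGroup V'] [Module k V'] [Module P V'] [IsScalarTower k P V']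

/-- the class in `(V ⧸ W) ⊗ O` -/
def mq (W : Submodule P V) : V ⊗[k] O →ₗ[k] (V ⧸ W) ⊗[k] O :=
  ((W.mkQ).restrictScalars k).rTensor O

/-- a stable submodule -/
def Stable (c : HopfRep.Comod k O V) (W : Submodule P V) : Prop :=
  ∀ w ∈ W, mq (k := k) (O := O) W (c.coact w) = 0

theorem mem_range_iff (W : Submodule P V) (x : V ⊗[k] O) :
    x ∈ LinearMap.range ((W.restrictScalars k).subtype.rTensor O) ↔ mq (k := k) (O := O) W x = 0 := by
  have h : Function.Exact ((W.restrictScalars k).subtype) ((W.mkQ).restrictScalars k) := by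
    intro y
    simp
  have h2 := rTensor_exact O h (by exact W.mkQ_surjective)
  exact (h2 x).symm

theorem stable_iff (c : HopfRep.Comod k O V) (W : Submodule P V) :
    Stable c W ↔ @HopfRep.IsSubcomod k O _ _ _ _ V _ _ c (W.restrictScalars k) := by
  constructor
  · intro h w hw
    exact (mem_range_iff W _).2 (h w hw)
  · intro h w hw
    exact (mem_range_iff W _).1 (h w hw)

theorem Stable.top (c : HopfRep.Comod k O V) : Stable (P := P) c (⊤ : Submodule P V) := by
  intro w _
  rw [← mem_range_iff]
  have : Function.Surjective (((⊤ : Submodule P V).restrictScalars k).subtype) := fun v => ⟨⟨v, trivial⟩, rfl⟩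
  exact (LinearMap.rTensor_surjective O this) _

theorem Stable.bot (c : HopfRep.Comod k O V) : Stable (P := P) c (⊥ : Submodule P V) := by
  intro w hw
  rw [Submodule.mem_bot] at hw
  subst hw
  simp

/-- naturality of the classes: `f` carries `W` into `W'` -/
theorem mq_map (f : V →ₗ[P] V') (W : Submodule P V) (W' : Submodule P V') (h : W ≤ W'.comap f) (x : V ⊗[k] O) :
    mq (k := k) (O := O) W' ((f.restrictScalars k).rTensor O x) =
      ((W.mapQ W' f h).restrictScalars k).rTensor O (mq (k := k) (O := O) W x) := by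
  unfold mq
  rw [← LinearMap.comp_apply, ← LinearMap.rTensor_comp, ← LinearMap.comp_apply, ← LinearMap.rTensor_comp]
  rfl

theorem mq_eq_zero_of_map (f : V →ₗ[P] V') (W : Submodule P V) (W' : Submodule P V') (h : W ≤ W'.comap f)
    (x : V ⊗[k] O) (hx : mq (k := k) (O := O) W x = 0) :
    mq (k := k) (O := O) W' ((f.restrictScalars k).rTensor O x) = 0 := by
  rw [mq_map f W W' h, hx, map_zero]

theorem mq_comap [Module.Flat k O] (f : V →ₗ[P] V') (W' : Submodule P V') (x : V ⊗[k] O)
    (hx : mq (k := k) (O := O) W' ((f.restrictScalars k).rTensor O x) = 0) :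
    mq (k := k) (O := O) (W'.comap f) x = 0 := by
  rw [mq_map f (W'.comap f) W' le_rfl] at hx
  have hinj : Function.Injective (((W'.comap f).mapQ W' f le_rfl).restrictScalars k) := by
    rw [← LinearMap.ker_eq_bot (f := ((W'.comap f).mapQ W' f le_rfl).restrictScalars k), LinearMap.ker_eq_bot']
    intro m hm
    obtain ⟨m, rfl⟩ := Submodule.Quotient.mk_surjective _ m
    have : f m ∈ W' := by
      have h1 : (W'.comap f).mapQ W' f le_rfl (Submodule.Quotient.mk m) = 0 := hm
      rw [Submodule.mapQ_apply, Submodule.Quotient.mk_eq_zero] at h1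
      exact h1
    exact (Submodule.Quotient.mk_eq_zero _).2 this
  exact (map_eq_zero_iff _ (Module.Flat.rTensor_preserves_injective_linearMap (M := O) _ hinj)).1 hx

/-- a `P`-linear map commuting with the coactions -/
def Equi (c : HopfRep.Comod k O V) (c' : HopfRep.Comod k O V') (f : V →ₗ[P] V') : Prop :=
  ∀ v, c'.coact (f v) = (f.restrictScalars k).rTensor O (c.coact v)

theorem Stable.comap [Module.Flat k O] {c : HopfRep.Comod k O V} {c' : HopfRep.Comod k O V'} {f : V →ₗ[P] V'}
    (hf : Equi c c' f) {W' : Submodule P V'} (h : Stable c' W') : Stable c (W'.comap f) := by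
  intro v hv
  apply mq_comap f W'
  rw [← hf]
  exact h _ hv

theorem Stable.map {c : HopfRep.Comod k O V} {c' : HopfRep.Comod k O V'} {f : V →ₗ[P] V'}
    (hf : Equi c c' f) {W : Submodule P V} (h : Stable c W) : Stable c' (W.map f) := by
  rintro _ ⟨w, hw, rfl⟩
  rw [hf]
  exact mq_eq_zero_of_map f W (W.map f) (Submodule.le_comap_map f W) _ (h w hw)

end Stable

section Small

variable {k : Type u} [CommRing k] {O : Type u} [CommRing O] [Bialgebra k O]
  {P : Type u} [CommRing P] [Algebra k P] {D : Type u} [CommRing D] [Algebra k D]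
  (π : P →ₐ[k] D) (ρD : D →ₐ[k] D ⊗[k] O)
  {V : Type u} [AddCommGroup V] [Module k V] [Module P V] [IsScalarTower k P V]
  {V' : Type u} [AddCommGroup V'] [Module k V'] [Module P V'] [IsScalarTower k P V']

/-- `x ∈ P ⊗ O` lifts the coaction of the class of `p` -/
def IsLift (p : P) (x : P ⊗[k] O) : Prop :=
  π.toLinearMap.rTensor O x = ρD (π p)

theorem exists_isLift (hπ : Function.Surjective π) (p : P) : ∃ x, IsLift π ρD p x :=
  LinearMap.rTensor_surjective O (g := π.toLinearMap) hπ _

/-- A small filtration: finite, by stable submodules, the graded pieces are `(D,O)`-modules. -/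
structure SmallFil (c : HopfRep.Comod k O V) where
  n : ℕ
  F : ℕ → Submodule P V
  anti : ∀ i, F (i + 1) ≤ F i
  zero : F 0 = ⊤
  last : F n = ⊥
  stable : ∀ i, Stable c (F i)
  ker_smul : ∀ i, ∀ p : P, π p = 0 → ∀ v ∈ F i, p • v ∈ F (i + 1)
  semi : ∀ i, ∀ (p : P) (x : P ⊗[k] O), IsLift π ρD p x → ∀ v ∈ F i,
    mq (k := k) (O := O) (F (i + 1)) (c.coact (p • v) - act k O P V x (c.coact v)) = 0

/-- a small object -/
def Small (c : HopfRep.Comod k O V) : Prop := Nonempty (SmallFil (P := P) π ρD c)

variable {π ρD}

theorem Small.of_injective [Module.Flat k O] {c : HopfRep.Comod k O V} {c' : HopfRep.Comod k O V'}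
    (f : V →ₗ[P] V') (hf : Equi c c' f) (hinj : Function.Injective f) (h : Small (P := P) π ρD c') :
    Small (P := P) π ρD c := by
  obtain ⟨s⟩ := h
  refine ⟨⟨s.n, fun i => (s.F i).comap f, fun i => Submodule.comap_mono (s.anti i), by simp [s.zero], ?_,
    fun i => (s.stable i).comap hf, fun i p hp v hv => ?_, fun i p x hx v hv => ?_⟩⟩
  · simp only [s.last]
    exact LinearMap.ker_eq_bot.2 hinj
  · simp only [Submodule.mem_comap, map_smul]
    exact s.ker_smul i p hp _ hv
  · apply mq_comap f
    rw [map_sub, act_rTensor, ← hf, ← hf, map_smul]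
    exact s.semi i p x hx _ hv

theorem Small.of_surjective {c : HopfRep.Comod k O V} {c' : HopfRep.Comod k O V'}
    (f : V →ₗ[P] V') (hf : Equi c c' f) (hsurj : Function.Surjective f) (h : Small (P := P) π ρD c) :
    Small (P := P) π ρD c' := by
  obtain ⟨s⟩ := h
  refine ⟨⟨s.n, fun i => (s.F i).map f, fun i => Submodule.map_mono (s.anti i), ?_, ?_,
    fun i => (s.stable i).map hf, ?_, ?_⟩⟩
  · simp only [s.zero]
    rw [Submodule.map_top, LinearMap.range_eq_top.2 hsurj]
  · simp only [s.last, Submodule.map_bot]
  · rintro i p hp _ ⟨v, hv, rfl⟩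
    rw [← map_smul]
    exact Submodule.mem_map_of_mem (s.ker_smul i p hp v hv)
  · rintro i p x hx _ ⟨v, hv, rfl⟩
    rw [← map_smul, hf, hf, ← act_rTensor, ← map_sub]
    exact mq_eq_zero_of_map f (s.F (i + 1)) _ (Submodule.le_comap_map f _) _ (s.semi i p x hx v hv)

end Small

end Groth.Agent.ResProp.EF.K981
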